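import Cfsg.Agent.Lib.Comp.HdLL.Base

set_option maxRecDepth 100000
set_option Elab.async false

namespace Cfsg.Lib.Comp.HdLL

universe u

noncomputable def T0_R : List (List ℕ × ℕ) := (apd [([1],1),
 ([2],1),
 ([3],1),
 ([4],1),
 ([5],1),
 ([6],1),
 ([7],1),
 ([8],1),
 ([9],1),
 ([10],1),
 ([11],1),
 ([12],1),
 ([1,2,1,2,5],0),
 ([1,3],1),
 ([1,4],1),
 ([1,5],1),
 ([1,6,1,6,8],0),
 ([1,7],1),
 ([1,8],1),
 ([1,9,1,9,10],0),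
 ([1,10],1),
 ([2,3,2,3,6],0),
 ([2,4],1),
 ([2,5],1),
 ([2,6],1),
 ([2,7,2,7,9],0),
 ([2,8],1),
 ([2,9],1),
 ([2,10],1),
 ([3,4,3,4,7],0),
 ([3,5,3,5,8],0),
 ([3,6],1),
 ([3,7],1),
 ([3,8],1),
 ([3,9],1),
 ([3,10],1),
 ([4,5],1),
 ([4,6,4,6,9],0),
 ([4,7],1),
 ([4,8,4,8,10],0)]
 (apd [([4,9],1),
 ([4,10],1),
 ([5,6],1),
 ([5,7,5,7,10],0),
 ([5,8],1),
 ([5,9],1),
 ([5,10],1),
 ([6,7],1),
 ([6,8],1),
 ([6,9],1),
 ([6,10],1),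
 ([7,8],1),
 ([7,9],1),
 ([7,10],1),
 ([8,9],1),
 ([8,10],1),
 ([9,10],1),
 ([11,2],2),
 ([11,1],1),
 ([11,3],1),
 ([11,4],1),
 ([11,5,11,5,1],0),
 ([11,6,11,6,3],0),
 ([11,7],1),
 ([11,8],1),
 ([11,9,11,9,7],0),
 ([11,10],1),
 ([12,3],2),
 ([12,1],1),
 ([12,2],1),
 ([12,4],1),
 ([12,5],1),
 ([12,6,12,6,2],0),
 ([12,7,12,7,4],0),
 ([12,8,12,8,5],0),
 ([12,9],1),
 ([12,10],1),
 ([2,11,2,3,12,3],2),
 ([15],2),
 ([4,15],1)]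
 [([15,1,16,1],0),
 ([15,2,16,2],0),
 ([15,3,16,7],0),
 ([15,5,16,5],0),
 ([15,6,16,9],0),
 ([15,7,16,7,3],0),
 ([15,8,16,10],0),
 ([15,9,16,9,6],0),
 ([15,10,16,10,8],0),
 ([15,11,16,11],0),
 ([13],2),
 ([1,13],1),
 ([13,2,14,5],0),
 ([13,3,14,3],0),
 ([13,4,14,4],0),
 ([13,5,14,5,2],0),
 ([13,6,14,8],0),
 ([13,7,14,7],0),
 ([13,8,14,8,6],0),
 ([13,9,14,10],0),
 ([13,10,14,10,9],0),
 ([13,12,14,12],0),
 ([15,13,16,14],0),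
 ([12,15],2),
 ([11,13],2),
 ([13,14],0),
 ([15,16],0)]))

noncomputable def T0_n_1 : Net :=
 (Net.cons 16 (nat_lit 0x2000)
 (Net.cons 8 (nat_lit 0x600046)
 (Net.cons 4 (nat_lit 0x20608)
 (Net.cons 2 (nat_lit 0x20)
 (Net.cons 1 (nat_lit 0x15010)
 (Net.cons 2 (nat_lit 0x3120)
 (Net.cons 4 (nat_lit 0x602060c)
 (Net.cons 8 (nat_lit 0x600046)
 (Net.cons 16 (nat_lit 0x2000)
 Net.nil)))))))))

noncomputable def T0_n_2 : Net :=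
 (Net.cons 16 (nat_lit 0xb000)
 (Net.cons 8 (nat_lit 0x300040)
 (Net.cons 4 (nat_lit 0xc0402)
 (Net.cons 2 (nat_lit 0x20)
 (Net.cons 1 (nat_lit 0x510)
 (Net.cons 2 (nat_lit 0x300322)
 (Net.cons 4 (nat_lit 0xc0402)
 (Net.cons 8 (nat_lit 0xb10040)
 (Net.cons 16 (nat_lit 0xb000)
 Net.nil)))))))))

noncomputable def T0_n_3 : Net :=
 (Net.cons 16 (nat_lit 0x2a00)
 (Net.cons 8 (nat_lit 0x240004)
 (Net.cons 4 (nat_lit 0xc080400)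
 (Net.cons 2 (nat_lit 0x20000000)
 (Net.cons 1 (nat_lit 0x10500000)
 (Net.cons 2 (nat_lit 0x21310100)
 (Net.cons 4 (nat_lit 0xc080404)
 (Net.cons 8 (nat_lit 0x3e0004)
 (Net.cons 16 (nat_lit 0x2a00)
 Net.nil)))))))))

noncomputable def T0_n_4 : Net :=
 (Net.cons 16 (nat_lit 0x8000)
 (Net.cons 4 (nat_lit 0xe0000)
 (Net.cons 1 (nat_lit 0x55451000)
 (Net.cons 2 (nat_lit 0x33030000)
 (Net.cons 4 (nat_lit 0x90e0000)
 (Net.cons 8 (nat_lit 0x810000)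
 (Net.cons 16 (nat_lit 0x8000)
 Net.nil)))))))

noncomputable def T0_n_5 : Net :=
 (Net.cons 16 (nat_lit 0x2000)
 (Net.cons 8 (nat_lit 0x280040)
 (Net.cons 4 (nat_lit 0xa040a)
 (Net.cons 2 (nat_lit 0x2002020)
 (Net.cons 1 (nat_lit 0x1051010)
 (Net.cons 2 (nat_lit 0x2002322)
 (Net.cons 4 (nat_lit 0xa040a)
 (Net.cons 8 (nat_lit 0x280040)
 (Net.cons 16 (nat_lit 0x2000)
 Net.nil)))))))))

noncomputable def T0_n_6 : Net :=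
 (Net.cons 16 (nat_lit 0x6400)
 (Net.cons 8 (nat_lit 0x240044)
 (Net.cons 4 (nat_lit 0x80400)
 (Net.cons 2 (nat_lit 0x20000)
 (Net.cons 1 (nat_lit 0x40500)
 (Net.cons 2 (nat_lit 0x10320300)
 (Net.cons 4 (nat_lit 0x80404)
 (Net.cons 8 (nat_lit 0x750044)
 (Net.cons 16 (nat_lit 0x6400)
 Net.nil)))))))))

noncomputable def T0_n_7 : Net :=
 (Net.cons 16 (nat_lit 0xa0a0)
 (Net.cons 8 (nat_lit 0x340020)
 (Net.cons 4 (nat_lit 0xc080000)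
 (Net.cons 1 (nat_lit 0x40501000)
 (Net.cons 2 (nat_lit 0x3310020)
 (Net.cons 4 (nat_lit 0xc080000)
 (Net.cons 8 (nat_lit 0x340020)
 (Net.cons 16 (nat_lit 0xa0a0)
 Net.nil))))))))

noncomputable def T0_n_8 : Net :=
 (Net.cons 16 (nat_lit 0x2000)
 (Net.cons 8 (nat_lit 0x2c0044)
 (Net.cons 4 (nat_lit 0x400)
 (Net.cons 2 (nat_lit 0x2000000)
 (Net.cons 1 (nat_lit 0x1110000)
 (Net.cons 2 (nat_lit 0x12000300)
 (Net.cons 4 (nat_lit 0x70404)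
 (Net.cons 8 (nat_lit 0x2c0044)
 (Net.cons 16 (nat_lit 0x2000)
 Net.nil)))))))))

noncomputable def T0_n_9 : Net :=
 (Net.cons 16 (nat_lit 0xb240)
 (Net.cons 8 (nat_lit 0x100040)
 (Net.cons 4 (nat_lit 0x80c0000)
 (Net.cons 2 (nat_lit 0x20301000)
 (Net.cons 4 (nat_lit 0xc0c0200)
 (Net.cons 8 (nat_lit 0xb90040)
 (Net.cons 16 (nat_lit 0xb240)
 Net.nil)))))))

noncomputable def T0_n_10 : Net :=
 (Net.cons 16 (nat_lit 0x2800)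
 (Net.cons 8 (nat_lit 0x780000)
 (Net.cons 4 (nat_lit 0xa0200)
 (Net.cons 2 (nat_lit 0x2002000)
 (Net.cons 1 (nat_lit 0x1051000)
 (Net.cons 2 (nat_lit 0x2102200)
 (Net.cons 4 (nat_lit 0x60a0200)
 (Net.cons 8 (nat_lit 0x780000)
 (Net.cons 16 (nat_lit 0x2800)
 Net.nil)))))))))

noncomputable def T0_n_11 : Net :=
 (Net.cons 16 (nat_lit 0xb000)
 (Net.cons 8 (nat_lit 0x240014)
 (Net.cons 4 (nat_lit 0x8000000)
 (Net.cons 2 (nat_lit 0x200000)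
 (Net.cons 1 (nat_lit 0x10400000)
 (Net.cons 2 (nat_lit 0x2211102)
 (Net.cons 4 (nat_lit 0x8000504)
 (Net.cons 8 (nat_lit 0x240014)
 (Net.cons 16 (nat_lit 0xb000)
 Net.nil)))))))))

noncomputable def T0_n_12 : Net :=
 (Net.cons 16 (nat_lit 0x8000)
 (Net.cons 8 (nat_lit 0xb0)
 (Net.cons 4 (nat_lit 0x80c0008)
 (Net.cons 2 (nat_lit 0x2020000)
 (Net.cons 1 (nat_lit 0x1410050)
 (Net.cons 2 (nat_lit 0x2020000)
 (Net.cons 4 (nat_lit 0x80c0b08)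
 (Net.cons 8 (nat_lit 0x8100b0)
 (Net.cons 16 (nat_lit 0x8000)
 Net.nil)))))))))

noncomputable def T0_n_13 : Net :=
 (Net.cons 16 (nat_lit 0x22b8)
 (Net.cons 8 (nat_lit 0x400034)
 (Net.cons 4 (nat_lit 0x2080004)
 (Net.cons 2 (nat_lit 0x200220)
 (Net.cons 1 (nat_lit 0x1100111)
 (Net.cons 2 (nat_lit 0x201321)
 (Net.cons 4 (nat_lit 0x6000600)
 (Net.cons 8 (nat_lit 0x100d1)
 (Net.cons 16 (nat_lit 0x22b8)
 Net.nil)))))))))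

noncomputable def T0_n_15 : Net :=
 (Net.cons 16 (nat_lit 0x8780)
 (Net.cons 8 (nat_lit 0x1c00b0)
 (Net.cons 4 (nat_lit 0x40a0c00)
 (Net.cons 2 (nat_lit 0x220000)
 (Net.cons 1 (nat_lit 0x51140510)
 (Net.cons 2 (nat_lit 0x13020310)
 (Net.cons 4 (nat_lit 0x90e0000)
 (Net.cons 8 (nat_lit 0x1d00b0)
 (Net.cons 16 (nat_lit 0x8780)
 Net.nil)))))))))

noncomputable def T0_n : List Net := [Net.nil,
 T0_n_1,
 T0_n_2,
 T0_n_3,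
 T0_n_4,
 T0_n_5,
 T0_n_6,
 T0_n_7,
 T0_n_8,
 T0_n_9,
 T0_n_10,
 T0_n_11,
 T0_n_12,
 T0_n_13,
 Net.rev T0_n_13,
 T0_n_15,
 Net.rev T0_n_15]

theorem T0_n_ok : NetsOK 32 T0_n := netsOK_of (by decide +kernel)

theorem T0_n_rel : Rels (gp T0_n) T0_R := rels_of_relsB (k := 5) T0_n_ok (by norm_num) (by decide +kernel)

theorem T0_fin : finB 32 T0_n [1,2,3,4,5,6,7,8,9,10,11,12,13,14,15,16] 31 (runH 32 T0_n (fun x p => ptInv (nth Net.nil T0_n x) p) iv T0_R [] ([1,2,3,4,5,6,7,8,9,10,11,12,15,16].map fun x => [x]) 0 []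
  (apd [1,5,9,13,17,21,25,29,33,37,41,45,49,53,4,8,12,40,44,276,324,372,420,424,312,324,360,364,368,372,376,380,384,388,392,396,400,404,408,416,420,424,0,228,232,236,240,244,248,252,256,260,264,268,272,280,284,288,292,296]
 (apd [300,304,316,320,328,332,336,340,344,348,352,356,360,364,368,372,376,380,384,388,392,396,400,404,408,412,416,420,12,16,20,24,32,44,48,52,56,84,88,96,100,104,108,112,116,120,124,128,132,136,140,144,148,156,160,164,168,180,188,204]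
 [268,272,276,280,284,288,292,296,320,324,328,332,336,340,344,348,352,368,372,376,380,384,396,52,56,308,236,248,356]))
  (defsH 32 T0_n (ones 544) [13,14,11,12,13,15,16,2,3,4] (Nat.shiftLeft 1 0) 0)) = true := by decide +kernel

theorem T0_idx : Idx.{u} iv (T0_R ++ []) ([1,2,3,4,5,6,7,8,9,10,11,12,15,16].map fun x => [x]) [1,2,3,4,5,6,7,8,9,10,11,12,13,14,15,16] 31 :=
  Reach.idx T0_n_ok (reach_runH T0_n_ok (fun x p _ => ptInv_gp T0_n_ok x p) T0_n_rel (reach_defsH T0_n_ok _ _ _ _ _ _) _ _) T0_fin (by norm_num)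

end Cfsg.Lib.Comp.HdLL
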